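import Mathlib

/-!
# Subgroups of `A₈` containing a natural `A₅`

`G ≤ A₈` contains a subgroup `L` of order 60 centralizing an element of order 3, generated by
involutions, and a Sylow 2-subgroup of `G` normalizes `L`. Then `G` normalizes `L` or `G ≅ A₇`.
-/

set_option autoImplicit false
set_option linter.style.haveILetI false

namespace Cfsg.Agent.H247.AltEight

open Equiv Equiv.Perm

variable {α : Type*} [Fintype α] [DecidableEq α]

/-- a permutation of prime order with few moved points is a cycle -/
theorem cycleType_eq {σ : Perm α} {r : ℕ} (hr : r.Prime) (hσ : orderOf σ = r)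
    (hs : σ.support.card < 2 * r) : σ.cycleType = {r} := by
  obtain ⟨n, hn⟩ := cycleType_prime_order (σ := σ) (by rw [hσ]; exact hr)
  rw [hσ] at hn
  have h1 := sum_cycleType σ
  rw [hn, Multiset.sum_replicate, smul_eq_mul] at h1
  have h2 : n = 0 := by
    by_contra hne
    have h3 : 2 ≤ n + 1 := by omega
    have h4 : 2 * r ≤ (n + 1) * r := Nat.mul_le_mul_right _ h3
    omega
  rw [hn, h2]
  rfl

theorem support_card_eq {σ : Perm α} {r : ℕ} (h : σ.cycleType = {r}) : σ.support.card = r := by
  rw [← sum_cycleType, h, Multiset.sum_singleton]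

theorem isCycle_of {σ : Perm α} {r : ℕ} (h : σ.cycleType = {r}) : σ.IsCycle := by
  rw [← card_cycleType_eq_one, h, Multiset.card_singleton]

omit [Fintype α] [DecidableEq α] in
/-- an element commuting with a cycle and fixing a moved point fixes all moved points -/
theorem fix_of_commute {f z : Perm α} (hf : f.IsCycle) (hc : z * f = f * z) {x₀ : α}
    (hx₀ : f x₀ ≠ x₀) (hz : z x₀ = x₀) {x : α} (hx : f x ≠ x) : z x = x := by
  obtain ⟨i, hi⟩ := hf.sameCycle hx₀ hx
  have h1 : Commute z f := hc
  have h2 := (h1.zpow_right i).eq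
  have h3 := DFunLike.congr_fun h2 x₀
  rw [Perm.mul_apply, Perm.mul_apply, hz, hi] at h3
  exact h3

/-- an element of order 3 commuting with a 5-cycle in degree 8 fixes the five moved points -/
theorem fix_five {f z : Perm (Fin 8)} (hf : f.cycleType = {5}) (hc : z * f = f * z)
    (hz : orderOf z = 3) {x : Fin 8} (hx : f x ≠ x) : z x = x := by
  have hcyc := isCycle_of hf
  have h5 := support_card_eq hf
  -- `z` preserves the set of moved points of `f`
  have hinv : ∀ y, f y ≠ y ↔ f (z y) ≠ z y := by
    intro y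
    have h1 : f (z y) = z (f y) := (DFunLike.congr_fun hc y).symm
    rw [h1]
    exact z.injective.ne_iff.symm
  obtain ⟨x₀, hx₀, hzx₀⟩ : ∃ x₀, f x₀ ≠ x₀ ∧ z x₀ = x₀ := by
    by_contra hcon
    push Not at hcon
    have hsub : f.support ⊆ z.support := by
      intro y hy
      rw [mem_support] at hy ⊢
      exact hcon y hy
    obtain ⟨n, hn⟩ := cycleType_prime_order (σ := z) (by rw [hz]; exact Nat.prime_three)
    have h1 := sum_cycleType z
    rw [hn, hz, Multiset.sum_replicate, smul_eq_mul] at h1
    have h2 : z.support.card ≤ 8 := by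
      simpa using Finset.card_le_univ z.support
    have h3 := Finset.card_le_card hsub
    rw [h5] at h3
    have h6 : z.support.card = 6 := by omega
    have h7 : (z.support \ f.support).card = 1 := by
      rw [Finset.card_sdiff_of_subset hsub, h6, h5]
    obtain ⟨y, hy⟩ := Finset.card_eq_one.1 h7
    have hy1 : y ∈ z.support \ f.support := by rw [hy]; exact Finset.mem_singleton_self _
    rw [Finset.mem_sdiff, mem_support, notMem_support] at hy1
    have hy2 : z y ∈ z.support \ f.support := by
      rw [Finset.mem_sdiff, mem_support, notMem_support]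
      refine ⟨fun h => hy1.1 (z.injective h), ?_⟩
      by_contra h
      exact (hinv y).2 h hy1.2
    rw [hy, Finset.mem_singleton] at hy2
    exact hy1.1 hy2
  exact fix_of_commute hcyc hc hx₀ hzx₀ hx

/-- an involution commuting with a 3-cycle fixes its three moved points -/
theorem fix_three {t z : Perm α} (hz : z.cycleType = {3}) (hc : z * t = t * z) (ht : t * t = 1)
    {x : α} (hx : z x ≠ x) : t x = x := by
  have hcyc := isCycle_of hz
  have ho : z ^ 3 = 1 := by
    have h1 : orderOf z = 3 := by rw [← lcm_cycleType, hz, Multiset.lcm_singleton]; rfl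
    rw [← h1]
    exact pow_orderOf_eq_one z
  have h3 : ∀ y, z (z (z y)) = y := by
    intro y
    have := DFunLike.congr_fun ho y
    simpa [pow_succ] using this
  have h2 : ∀ y, t (t y) = y := fun y => DFunLike.congr_fun ht y
  have hcx : ∀ y, t (z y) = z (t y) := fun y => (DFunLike.congr_fun hc y).symm
  have htx : z (t x) ≠ t x := by
    rw [← hcx]
    exact fun h => hx (t.injective h)
  -- the support is `{x, z x, z (z x)}`
  have hzzx : z (z x) ≠ x := by
    intro h
    have h4 := h3 x
    rw [h] at h4
    exact hx h4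
  have hsupp : ({x, z x, z (z x)} : Finset α) = z.support := by
    apply Finset.eq_of_subset_of_card_le
    · intro y hy
      rw [mem_support]
      simp only [Finset.mem_insert, Finset.mem_singleton] at hy
      rcases hy with rfl | rfl | rfl
      · exact hx
      · exact fun h => hx (z.injective h)
      · exact fun h => hx (z.injective (z.injective h))
    · rw [support_card_eq hz]
      rw [Finset.card_insert_of_notMem, Finset.card_pair]
      · exact fun h => hx (z.injective h).symm
      · simp only [Finset.mem_insert, Finset.mem_singleton, not_or]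
        exact ⟨fun h => hx h.symm, fun h => hzzx h.symm⟩
  have hmem : t x ∈ z.support := by
    rw [mem_support]; exact htx
  rw [← hsupp] at hmem
  simp only [Finset.mem_insert, Finset.mem_singleton] at hmem
  rcases hmem with h | h | h
  · exact h
  · exfalso
    have h4 := h2 x
    rw [h, hcx, h] at h4
    exact hzzx h4
  · exfalso
    have h4 := h2 x
    rw [h, hcx, hcx, h, h3] at h4
    exact hx h4

/-- the even permutations with support in a 5-set form a group of order 60 -/
theorem eq_of_card_sixty {L : Subgroup (Perm (Fin 8))} (hL : Nat.card L = 60)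
    (hLA : L ≤ alternatingGroup (Fin 8)) {D : Finset (Fin 8)} (hD : D.card = 5)
    (hLD : ∀ l ∈ L, l.support ⊆ D) {g : Perm (Fin 8)} (hg : g ∈ alternatingGroup (Fin 8))
    (hgD : g.support ⊆ D) : g ∈ L := by
  let K : Subgroup (Perm (Fin 8)) := (alternatingGroup.ofSubtype D).range.map (alternatingGroup (Fin 8)).subtype
  have hmem : ∀ k : Perm (Fin 8), k ∈ K ↔ k ∈ alternatingGroup (Fin 8) ∧ k.support ⊆ D := by
    intro k
    constructor
    · rintro ⟨k', hk', rfl⟩
      exact ⟨k'.2, (alternatingGroup.mem_range_ofSubtype_iff D k').1 hk'⟩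
    · rintro ⟨h1, h2⟩
      exact ⟨⟨k, h1⟩, (alternatingGroup.mem_range_ofSubtype_iff D ⟨k, h1⟩).2 h2, rfl⟩
  have hcardK : Nat.card K = 60 := by
    have h1 : Nat.card K = Nat.card (alternatingGroup.ofSubtype D).range :=
      Nat.card_congr (Subgroup.equivMapOfInjective _ _ (Subgroup.subtype_injective _)).symm.toEquiv
    have h2 : Nat.card (alternatingGroup.ofSubtype D).range = Nat.card (alternatingGroup D) :=
      Nat.card_congr (MonoidHom.ofInjective alternatingGroup.ofSubtype_injective).symm.toEquiv
    haveI : Nontrivial D := by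
      rw [← Fintype.one_lt_card_iff_nontrivial, Fintype.card_coe, hD]
      norm_num
    rw [h1, h2, nat_card_alternatingGroup, Nat.card_eq_fintype_card, Fintype.card_coe, hD]
    decide
  have hLK : L ≤ K := fun l hl => (hmem l).2 ⟨hLA hl, hLD l hl⟩
  have heq : L = K := Subgroup.eq_of_le_of_card_ge hLK (by rw [hL, hcardK])
  rw [heq]
  exact (hmem g).2 ⟨hg, hgD⟩

/-- a transitive group of even permutations of seven of the eight points containing an element of order 3
with at most five moved points -/
theorem equiv_alt_seven {G : Subgroup (Perm (Fin 8))} (hG : G ≤ alternatingGroup (Fin 8)) {y : Fin 8}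
    (hy : ∀ g ∈ G, g y = y) (htr : ∀ a b : Fin 8, a ≠ y → b ≠ y → ∃ g ∈ G, g a = b)
    {t : Perm (Fin 8)} (ht : t ∈ G) (ht3 : t.cycleType = {3}) :
    Nonempty (G ≃* alternatingGroup (Fin 7)) := by
  let β : Type := {x : Fin 8 // x ≠ y}
  have hinv : ∀ g ∈ G, ∀ x, g x ≠ y ↔ x ≠ y := by
    intro g hg x
    constructor
    · rintro h rfl
      exact h (hy g hg)
    · intro h h1
      apply h
      apply g.injective
      rw [h1, hy g hg]
  let r : G →* Perm β :=
    { toFun := fun g => subtypePerm g.1 (hinv g.1 g.2)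
      map_one' := by ext x; rfl
      map_mul' := fun g h => by ext x; rfl }
  have hr : ∀ (g : G) (x : β), (r g x).1 = g.1 x.1 := fun g x => rfl
  have hrinj : Function.Injective r := by
    intro g h hgh
    apply Subtype.ext
    ext x
    by_cases hx : x = y
    · rw [hx, hy g.1 g.2, hy h.1 h.2]
    · have h1 := hr g ⟨x, hx⟩
      have h2 := hr h ⟨x, hx⟩
      rw [← h1, ← h2, hgh]
  have hsign : ∀ g : G, sign (r g) = 1 := by
    intro g
    have h1 : sign (r g) = sign g.1 := sign_subtypePerm g.1 (hinv g.1 g.2) (fun x hx hxy => hx (by rw [hxy]; exact hy g.1 g.2))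
    rw [h1]
    exact mem_alternatingGroup.1 (hG g.2)
  have hcard : Nat.card β = 7 := by
    rw [Nat.card_eq_fintype_card]
    change Fintype.card {x : Fin 8 // x ≠ y} = 7
    rw [Fintype.card_subtype_compl, Fintype.card_fin, Fintype.card_subtype_eq]
  haveI hpt : MulAction.IsPretransitive r.range β := by
    refine ⟨fun a b => ?_⟩
    obtain ⟨g, hg, hgab⟩ := htr a.1 b.1 a.2 b.2
    exact ⟨⟨r ⟨g, hg⟩, ⟨⟨g, hg⟩, rfl⟩⟩, Subtype.ext hgab⟩
  have hprim : MulAction.IsPreprimitive r.range β :=
    MulAction.IsPreprimitive.of_prime_card (by rw [hcard]; norm_num)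
  have h3 : IsThreeCycle (r ⟨t, ht⟩) := by
    have h1 : ofSubtype (r ⟨t, ht⟩) = t :=
      ofSubtype_subtypePerm (hinv t ht) (fun x hx hxy => hx (by rw [hxy]; exact hy t ht))
    have h2 : (r ⟨t, ht⟩).cycleType = t.cycleType := by
      rw [← cycleType_ofSubtype, h1]
    rw [IsThreeCycle, h2, ht3]
  have hle : alternatingGroup β ≤ r.range :=
    alternatingGroup_le_of_isPreprimitive_of_isThreeCycle_mem hprim h3 ⟨_, rfl⟩
  have heq : r.range = alternatingGroup β := by
    apply le_antisymm _ hle
    rintro _ ⟨g, rfl⟩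
    exact mem_alternatingGroup.2 (hsign g)
  have e1 : G ≃* r.range := MonoidHom.ofInjective hrinj
  have e2 : r.range ≃* alternatingGroup β := MulEquiv.subgroupCongr heq
  have e3 : β ≃ Fin 7 := Fintype.equivFinOfCardEq (by rw [← Nat.card_eq_fintype_card, hcard])
  exact ⟨(e1.trans e2).trans (Equiv.altCongrHom e3)⟩

theorem perm_main {G L S : Subgroup (Perm (Fin 8))} (hG : G ≤ alternatingGroup (Fin 8))
    (hLG : L ≤ G) (hL : Nat.card L = 60) (hSG : S ≤ G) (hS : IsPGroup 2 S)
    (hmax : ∀ T : Subgroup (Perm (Fin 8)), T ≤ G → IsPGroup 2 T → Nat.card T ≤ Nat.card S)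
    (hSN : S ≤ Subgroup.normalizer (L : Set (Perm (Fin 8)))) {z : Perm (Fin 8)} (hz : orderOf z = 3)
    (hzL : ∀ l ∈ L, z * l = l * z)
    (hgen : ∀ K : Subgroup (Perm (Fin 8)), (∀ t ∈ L, t * t = 1 → t ∈ K) → L ≤ K) :
    G ≤ Subgroup.normalizer (L : Set (Perm (Fin 8))) ∨ Nonempty (G ≃* alternatingGroup (Fin 7)) := by
  -- a 5-cycle in `L`
  obtain ⟨f, hfL, hf⟩ : ∃ f ∈ L, f.cycleType = {5} := by
    haveI : Fact (Nat.Prime 5) := ⟨Nat.prime_five⟩
    obtain ⟨f, hf⟩ := exists_prime_orderOf_dvd_card' (G := L) 5 (by rw [hL]; norm_num)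
    refine ⟨f.1, f.2, cycleType_eq Nat.prime_five (by rw [← hf]; exact Subgroup.orderOf_coe f) ?_⟩
    have h2 : f.1.support.card ≤ 8 := by
      simpa using Finset.card_le_univ f.1.support
    omega
  have hf5 := support_card_eq hf
  have hfcyc := isCycle_of hf
  -- `z` fixes the points moved by `f`
  have hzf : ∀ x, f x ≠ x → z x = x := fun x hx => fix_five hf (hzL f hfL) hz hx
  have hdisj : Disjoint f.support z.support := by
    rw [Finset.disjoint_left]
    intro x hx hx'
    rw [mem_support] at hx hx'
    exact hx' (hzf x hx)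
  have hzcard : f.support.card + z.support.card ≤ 8 := by
    rw [← Finset.card_union_of_disjoint hdisj]
    simpa using Finset.card_le_univ (f.support ∪ z.support)
  have hz3 : z.cycleType = {3} := cycleType_eq Nat.prime_three hz (by omega)
  have hzs := support_card_eq hz3
  have huniv : ∀ x, f x ≠ x ∨ z x ≠ x := by
    intro x
    by_contra hcon
    push Not at hcon
    have h1 : x ∉ f.support ∪ z.support := by
      rw [Finset.mem_union, mem_support, mem_support]
      push Not
      exact hcon
    have h2 : (insert x (f.support ∪ z.support)).card ≤ 8 := by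
      simpa using Finset.card_le_univ (insert x (f.support ∪ z.support))
    rw [Finset.card_insert_of_notMem h1, Finset.card_union_of_disjoint hdisj] at h2
    omega
  -- `L` fixes the points fixed by `f`
  have hLfix : ∀ l ∈ L, ∀ x, f x = x → l x = x := by
    let K : Subgroup (Perm (Fin 8)) :=
      { carrier := {l | ∀ x, f x = x → l x = x}
        one_mem' := fun x _ => rfl
        mul_mem' := fun {a b} ha hb x hx => by
          rw [Perm.mul_apply, hb x hx, ha x hx]
        inv_mem' := fun {a} ha x hx => by
          rw [Perm.inv_eq_iff_eq]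
          exact (ha x hx).symm }
    have h1 : L ≤ K := by
      apply hgen
      intro t ht ht2 x hx
      rcases huniv x with h | h
      · exact absurd hx h
      · exact fix_three hz3 (hzL t ht) ht2 h
    exact fun l hl => h1 hl
  have hLsupp : ∀ l ∈ L, l.support ⊆ f.support := by
    intro l hl x hx
    rw [mem_support] at hx ⊢
    exact fun h => hx (hLfix l hl x h)
  -- `S` preserves the support of `f`
  have hSf : ∀ s ∈ S, ∀ x, f x = x → f (s x) = s x := by
    intro s hs x hx
    have h1 : s⁻¹ * f * s ∈ L := by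
      have h2 := (Subgroup.mem_normalizer_iff.1 (hSN (inv_mem hs)) f).1 hfL
      rwa [inv_inv] at h2
    have h2 := hLfix _ h1 x hx
    rw [Perm.mul_apply, Perm.mul_apply, Perm.inv_eq_iff_eq] at h2
    exact h2
  -- a fixed point of `S` moved by `f`
  obtain ⟨x₀, hx₀, hSx₀⟩ : ∃ x₀, f x₀ ≠ x₀ ∧ ∀ s ∈ S, s x₀ = x₀ := by
    let X : SubMulAction S (Fin 8) :=
      { carrier := {x | f x ≠ x}
        smul_mem' := by
          rintro ⟨s, hs⟩ x hx h
          apply hx
          have h1 := hSf s⁻¹ (inv_mem hs) (s x) h
          have h3 : s⁻¹ (s x) = x := s.symm_apply_apply x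
          rw [h3] at h1
          exact h1 }
    have hX : Nat.card X = 5 := by
      change Nat.card {x // f x ≠ x} = 5
      rw [← hf5, Nat.card_eq_fintype_card]
      exact Fintype.card_of_subtype f.support (fun x => mem_support)
    obtain ⟨x, hx⟩ := hS.nonempty_fixed_point_of_prime_not_dvd_card X (by rw [hX]; norm_num)
    exact ⟨x.1, x.2, fun s hs => congrArg Subtype.val (hx ⟨s, hs⟩)⟩
  -- the orbit of `x₀` has odd length
  have hodd : ¬ 2 ∣ (MulAction.orbit G x₀).ncard := by
    let S' : Sylow 2 G :=
      { (S.subgroupOf G) with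
        isPGroup' := hS.comap_subtype
        is_maximal' := by
          intro T hT hle
          have h1 : IsPGroup 2 (T.map G.subtype) := hT.map _
          have h2 : T.map G.subtype ≤ G := by
            rintro _ ⟨t, -, rfl⟩
            exact t.2
          have h3 := hmax _ h2 h1
          have h4 : S ≤ T.map G.subtype := by
            intro s hs
            exact ⟨⟨s, hSG hs⟩, hle hs, rfl⟩
          have h5 := Subgroup.eq_of_le_of_card_ge h4 h3
          apply le_antisymm
          · intro t ht
            change (t : Perm (Fin 8)) ∈ S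
            rw [h5]
            exact ⟨t, ht, rfl⟩
          · exact hle }
    have h1 : ¬ 2 ∣ (S' : Subgroup G).index := S'.not_dvd_index
    have h2 : (S' : Subgroup G) ≤ MulAction.stabilizer G x₀ := by
      intro s hs
      exact hSx₀ s.1 hs
    rw [← MulAction.index_stabilizer]
    exact fun h => h1 (h.trans (Subgroup.index_dvd_of_le h2))
  have hsub : (f.support : Set (Fin 8)) ⊆ MulAction.orbit G x₀ := by
    intro x hx
    rw [Finset.mem_coe, mem_support] at hx
    obtain ⟨i, hi⟩ := hfcyc.sameCycle hx₀ hx
    exact ⟨⟨f ^ i, zpow_mem (hLG hfL) i⟩, hi⟩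
  have hinv : ∀ g ∈ G, ∀ x, x ∈ MulAction.orbit G x₀ ↔ g x ∈ MulAction.orbit G x₀ := by
    intro g hg x
    constructor
    · rintro ⟨h, rfl⟩
      exact ⟨⟨g, hg⟩ * h, rfl⟩
    · rintro ⟨h, hh⟩
      refine ⟨(⟨g, hg⟩ : G)⁻¹ * h, ?_⟩
      have e1 : h.1 x₀ = g x := hh
      change g⁻¹ (h.1 x₀) = x
      rw [e1]
      exact g.symm_apply_apply x
  have hge : 5 ≤ (MulAction.orbit G x₀).ncard := by
    rw [← hf5, ← Set.ncard_coe_finset]
    exact Set.ncard_le_ncard hsub (Set.toFinite _)
  have hle8 : (MulAction.orbit G x₀).ncard ≤ 8 := by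
    have h1 := Set.ncard_le_ncard (Set.subset_univ (MulAction.orbit G x₀)) (Set.toFinite _)
    simpa using h1
  have hcases : (MulAction.orbit G x₀).ncard = 5 ∨ (MulAction.orbit G x₀).ncard = 7 := by
    omega
  rcases hcases with h5 | h7
  · left
    have hΩ : (f.support : Set (Fin 8)) = MulAction.orbit G x₀ := by
      apply Set.eq_of_subset_of_ncard_le hsub _ (Set.toFinite _)
      rw [h5, Set.ncard_coe_finset, hf5]
    have hmem : ∀ x, x ∈ f.support ↔ x ∈ MulAction.orbit G x₀ := by
      intro x
      rw [← hΩ, Finset.mem_coe]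
    have key : ∀ g ∈ G, ∀ l ∈ L, g * l * g⁻¹ ∈ L := by
      intro g hg l hl
      apply eq_of_card_sixty hL (hLG.trans hG) hf5 hLsupp
        (hG (mul_mem (mul_mem hg (hLG hl)) (inv_mem hg)))
      intro x hx
      rw [mem_support, Perm.mul_apply, Perm.mul_apply] at hx
      have h1 : l (g⁻¹ x) ≠ g⁻¹ x := by
        intro h
        apply hx
        rw [h]
        exact g.apply_symm_apply x
      have h2 : g⁻¹ x ∈ f.support := hLsupp l hl (mem_support.2 h1)
      rw [hmem, hinv g hg] at h2
      have h3 : g (g⁻¹ x) = x := g.apply_symm_apply x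
      rw [h3] at h2
      rw [hmem]
      exact h2
    intro g hg
    rw [Subgroup.mem_normalizer_iff]
    intro l
    refine ⟨fun hl => key g hg l hl, fun hl => ?_⟩
    have h3 := key g⁻¹ (inv_mem hg) _ hl
    rwa [show g⁻¹ * (g * l * g⁻¹) * g⁻¹⁻¹ = l by group] at h3
  · right
    obtain ⟨y, hy⟩ : ∃ y, (MulAction.orbit G x₀)ᶜ = {y} := by
      rw [← Set.ncard_eq_one, Set.ncard_compl, h7]
      simp
    have hy' : ∀ x, x ≠ y ↔ x ∈ MulAction.orbit G x₀ := by
      intro x
      rw [← not_iff_not, not_not, ← Set.mem_compl_iff, hy, Set.mem_singleton_iff]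
    -- an element of order 3 of `L`
    haveI : Fact (Nat.Prime 3) := ⟨Nat.prime_three⟩
    obtain ⟨t, ht⟩ := exists_prime_orderOf_dvd_card' (G := L) 3 (by rw [hL]; norm_num)
    have ht3 : t.1.cycleType = {3} := by
      apply cycleType_eq Nat.prime_three (by rw [← ht]; exact Subgroup.orderOf_coe t)
      have h1 := Finset.card_le_card (hLsupp t.1 t.2)
      omega
    apply equiv_alt_seven hG (y := y) _ _ (hLG t.2) ht3
    · intro g hg
      by_contra h
      have h1 : g y ∈ MulAction.orbit G x₀ := (hy' _).1 h
      rw [← hinv g hg, ← hy'] at h1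
      exact h1 rfl
    · intro a b ha hb
      rw [hy'] at ha hb
      obtain ⟨g, hg⟩ := ha
      obtain ⟨h, hh⟩ := hb
      refine ⟨h.1 * g.1⁻¹, mul_mem h.2 (inv_mem g.2), ?_⟩
      have e1 : g.1 x₀ = a := hg
      have e2 : h.1 x₀ = b := hh
      rw [Perm.mul_apply, ← e1, ← e2]
      congr 1
      exact g.1.symm_apply_apply x₀

end Cfsg.Agent.H247.AltEight
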