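import Cfsg.Agent.S0256
import Cfsg.Agent.H247.NatSL
import Cfsg.Agent.H247.AltEight

/-!
# The case `q = 4`

The additive automorphisms of `F²`, `|F| = 4`, embed into `A₈`.
-/

set_option autoImplicit false
set_option linter.style.haveILetI false

namespace Cfsg.Agent.H247.EmbedEight

open Matrix

theorem zmod_two_eq_one : ∀ x y : ZMod 2, x * y = 1 → x = 1 := by
  decide

theorem zmod_two_pow_four : ∀ x : ZMod 2, x ^ 4 = 1 → x = 1 := by
  decide

theorem sl_four_two : ∃ f : SpecialLinearGroup (Fin 4) (ZMod 2) →* Equiv.Perm (Fin 8),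
    Function.Injective f ∧ ∀ g, f g ∈ alternatingGroup (Fin 8) := by
  haveI : Fact (Nat.Prime 2) := ⟨Nat.prime_two⟩
  obtain ⟨e⟩ := Cfsg.Agent.S0256.result (F := ZMod 2) (ZMod.card 2)
  have hc : Subgroup.center (SpecialLinearGroup (Fin 4) (ZMod 2)) = ⊥ := by
    rw [eq_bot_iff]
    intro A hA
    rw [Matrix.SpecialLinearGroup.mem_center_iff] at hA
    obtain ⟨r, hr, hA⟩ := hA
    have hr1 : r = 1 := zmod_two_pow_four r (by simpa using hr)
    subst hr1
    rw [Subgroup.mem_bot]
    apply Subtype.ext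
    rw [← hA]
    simp
  refine ⟨(alternatingGroup (Fin 8)).subtype.comp (e.toMonoidHom.comp
    (QuotientGroup.mk' (Subgroup.center (SpecialLinearGroup (Fin 4) (ZMod 2))))), ?_, ?_⟩
  · apply (Subgroup.subtype_injective _).comp
    apply e.injective.comp
    rw [injective_iff_map_eq_one]
    intro A hA
    have h1 : A ∈ Subgroup.center (SpecialLinearGroup (Fin 4) (ZMod 2)) :=
      (QuotientGroup.eq_one_iff A).1 hA
    rwa [hc, Subgroup.mem_bot] at h1
  · intro g
    exact (e (QuotientGroup.mk' _ g)).2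

theorem embed {F : Type*} [Field F] [Finite F] [CharP F 2] (hF : Nat.card F = 4) :
    ∃ f : NatSL.A F →* Equiv.Perm (Fin 8),
    Function.Injective f ∧ ∀ g, f g ∈ alternatingGroup (Fin 8) := by
  haveI : Fact (Nat.Prime 2) := ⟨Nat.prime_two⟩
  obtain ⟨f, hf, hfA⟩ := sl_four_two
  letI : Algebra (ZMod 2) F := ZMod.algebra F 2
  have hfr : Module.finrank (ZMod 2) (Fin 2 → F) = 4 := by
    have h1 : Nat.card (Fin 2 → F) = Nat.card (ZMod 2) ^ Module.finrank (ZMod 2) (Fin 2 → F) :=
      Module.natCard_eq_pow_finrank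
    rw [Nat.card_fun, Nat.card_eq_fintype_card (α := Fin 2), Fintype.card_fin, hF, Nat.card_zmod] at h1
    have h2 : 2 ^ 4 = 2 ^ Module.finrank (ZMod 2) (Fin 2 → F) := by rw [← h1]; norm_num
    exact (Nat.pow_right_injective le_rfl h2).symm
  let b : Module.Basis (Fin 4) (ZMod 2) (Fin 2 → F) := Module.finBasisOfFinrankEq _ _ hfr
  let lin : NatSL.A F →* Module.End (ZMod 2) (Fin 2 → F) :=
    { toFun := fun g => AddMonoidHom.toZModLinearMap 2 (g.toAddEquiv.toAddMonoidHom)
      map_one' := rfl
      map_mul' := fun g h => rfl }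
  let m : NatSL.A F →* Matrix (Fin 4) (Fin 4) (ZMod 2) :=
    (LinearMap.toMatrixAlgEquiv b : Module.End (ZMod 2) (Fin 2 → F) →* Matrix (Fin 4) (Fin 4) (ZMod 2)).comp lin
  have hminj : Function.Injective m := by
    intro g h hgh
    have h1 : lin g = lin h := (LinearMap.toMatrixAlgEquiv b).injective hgh
    apply LinearEquiv.ext
    intro u
    exact congrArg (fun k : Module.End (ZMod 2) (Fin 2 → F) => k u) h1
  have hdet : ∀ g, (m g).det = 1 := by
    intro g
    have h1 : (m g).det * (m g⁻¹).det = 1 := by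
      rw [← det_mul, ← map_mul, mul_inv_cancel, map_one, det_one]
    exact zmod_two_eq_one _ _ h1
  let Ψ : NatSL.A F →* SpecialLinearGroup (Fin 4) (ZMod 2) :=
    { toFun := fun g => ⟨m g, hdet g⟩
      map_one' := Subtype.ext (map_one m)
      map_mul' := fun g h => Subtype.ext (map_mul m g h) }
  refine ⟨f.comp Ψ, hf.comp ?_, fun g => hfA _⟩
  intro g h hgh
  exact hminj (congrArg Subtype.val hgh)

open NatSL in
theorem act_injective (F : Type*) [Field F] : Function.Injective (act F) := by
  intro g h hgh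
  apply Subtype.ext
  apply Matrix.ext_of_mulVec_single
  intro i
  have h1 := LinearEquiv.congr_fun hgh (Pi.single i 1)
  exact h1

open NatSL in
theorem card_SLs {F : Type*} [Field F] [Finite F] (hF : Nat.card F = 4) : Nat.card (SLs F) = 60 := by
  haveI := Fintype.ofFinite F
  have h1 : Nat.card (SLs F) = Nat.card (SpecialLinearGroup (Fin 2) F) :=
    Nat.card_congr (MonoidHom.ofInjective (act_injective F)).symm.toEquiv
  have h2 := Cfsg.Agent.S0242.result (F := F) (q := 4) (by rw [← Nat.card_eq_fintype_card, hF]) 2 (by norm_num)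
  rw [Fin.prod_univ_two] at h2
  norm_num at h2
  rw [h1]
  omega

open NatSL in
theorem four {F : Type*} [Field F] [Finite F] [CharP F 2] (hF : Nat.card F = 4)
    {Γ S : Subgroup (NatSL.A F)} (H : NatSL.Setup 2 Γ S) :
    Γ ≤ Subgroup.normalizer (SLs F : Set (NatSL.A F)) ∨ Nonempty (Γ ≃* alternatingGroup (Fin 7)) := by
  haveI : Fact (Nat.Prime 2) := ⟨Nat.prime_two⟩
  haveI : Fact (Nat.Prime 3) := ⟨Nat.prime_three⟩
  obtain ⟨f, hf, hfA⟩ := embed hF
  have hcardmap : ∀ K : Subgroup (NatSL.A F), Nat.card (K.map f) = Nat.card K := fun K =>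
    Nat.card_congr (K.equivMapOfInjective f hf).symm.toEquiv
  have hmemmap : ∀ (K : Subgroup (NatSL.A F)) (x : NatSL.A F), f x ∈ K.map f ↔ x ∈ K := by
    intro K x
    exact Subgroup.mem_map_iff_mem hf
  -- a scalar of order 3
  obtain ⟨ω, hω⟩ : ∃ ω : Fˣ, orderOf ω = 3 := by
    apply exists_prime_orderOf_dvd_card' 3
    haveI := Fintype.ofFinite F
    classical
    rw [Nat.card_units, hF]
  let sc : Fˣ →* NatSL.A F := DistribMulAction.toModuleAut ℤ (Fin 2 → F)
  have hsc : ∀ (a : Fˣ) (u : Fin 2 → F), sc a u = (a : F) • u := fun a u => rfl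
  have hscinj : Function.Injective sc := by
    intro a b hab
    apply Units.ext
    apply NatSL.scalar_inj
    intro u
    rw [← hsc, ← hsc, hab]
  have key := AltEight.perm_main (G := Γ.map f) (L := (SLs F).map f) (S := S.map f)
    (by rintro _ ⟨g, -, rfl⟩; exact hfA g) (Subgroup.map_mono H.hL)
    (by rw [hcardmap, card_SLs hF]) (Subgroup.map_mono H.hSG) (H.hSp.map f)
    (by
      intro T hT hTp
      have h1 : T = (T.comap f).map f := by
        rw [Subgroup.map_comap_eq_self]
        refine hT.trans ?_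
        rintro _ ⟨g, -, rfl⟩
        exact ⟨g, rfl⟩
      rw [hcardmap, h1, hcardmap]
      apply H.hmax
      · intro x hx
        exact (hmemmap Γ x).1 (hT hx)
      · exact hTp.comap_of_injective f hf)
    (by
      rintro _ ⟨s, hs, rfl⟩
      rw [Subgroup.mem_normalizer_iff]
      intro h
      constructor
      · rintro ⟨l, hl, rfl⟩
        exact ⟨s * l * s⁻¹, (Subgroup.mem_normalizer_iff.1 (H.hSN hs) l).1 hl, by
          rw [map_mul, map_mul, map_inv]⟩
      · rintro ⟨l, hl, hl'⟩
        refine ⟨s⁻¹ * l * s, ?_, ?_⟩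
        · have h2 := (Subgroup.mem_normalizer_iff.1 (H.hSN (inv_mem hs)) l).1 hl
          rwa [inv_inv] at h2
        · rw [map_mul, map_mul, map_inv, hl']
          group)
    (z := f (sc ω)) (by rw [orderOf_injective f hf, orderOf_injective sc hscinj, hω])
    (by
      rintro _ ⟨_, ⟨g, rfl⟩, rfl⟩
      rw [← map_mul, ← map_mul]
      congr 1
      apply LinearEquiv.ext
      intro u
      rw [LinearEquiv.mul_apply, LinearEquiv.mul_apply, hsc, hsc, act_smul])
    (by
      intro K hK
      have h1 : SLs F ≤ K.comap f := by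
        apply SLs_le_of
        intro g x hx
        apply hK
        · refine ⟨_, ?_, rfl⟩
          exact mul_mem (mul_mem ⟨g, rfl⟩ (Q_le F hx)) (inv_mem ⟨g, rfl⟩)
        · rw [← map_mul, ← map_one f]
          congr 1
          have h2 : x * x = 1 := by
            rw [← pow_two]
            exact Rt_pow_char (Q_le_Rt hx)
          calc act F g * x * (act F g)⁻¹ * (act F g * x * (act F g)⁻¹) =
              act F g * (x * x) * (act F g)⁻¹ := by group
            _ = 1 := by rw [h2]; group
      rintro _ ⟨l, hl, rfl⟩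
      exact h1 hl)
  rcases key with h | ⟨⟨e⟩⟩
  · left
    intro g hg
    rw [Subgroup.mem_normalizer_iff]
    intro l
    have h1 := h ((hmemmap Γ g).2 hg)
    have h2 := Subgroup.mem_normalizer_iff.1 h1 (f l)
    rw [hmemmap, ← map_inv, ← map_mul, ← map_mul, hmemmap] at h2
    exact h2
  · right
    exact ⟨(Γ.equivMapOfInjective f hf).trans e⟩

end Cfsg.Agent.H247.EmbedEight
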