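import Mathlib

/-!
# Isomorphic subgroups from tables

Two lists of `N` group elements in groups `G1`, `G2`, described by relations `R1`, `R2`, with the same
right multiplication table by corresponding involutory generators, give isomorphic subgroups of order `N`.
-/

set_option autoImplicit false
set_option linter.style.haveILetI false

namespace Cfsg.Agent.H247.Tables

theorem exists_iso {G1 G2 : Type*} [Group G1] [Group G2] {κ : Type*} {N : ℕ}
    (g : κ → G1) (h : κ → G2) (hg : ∀ k, g k * g k = 1) (hh : ∀ k, h k * h k = 1)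
    (R1 : Fin N → G1 → Prop) (R2 : Fin N → G2 → Prop) (i0 : Fin N) (h1 : R1 i0 1) (h2 : R2 i0 1)
    (ν : Fin N → κ → Fin N)
    (m1 : ∀ i k γ, R1 i γ → R1 (ν i k) (γ * g k)) (m2 : ∀ i k γ, R2 i γ → R2 (ν i k) (γ * h k))
    (u1 : ∀ i γ γ', R1 i γ → R1 i γ' → γ = γ') (u2 : ∀ i γ γ', R2 i γ → R2 i γ' → γ = γ')
    (d1 : ∀ i j γ, R1 i γ → R1 j γ → i = j) (d2 : ∀ i, R2 i 1 → i = i0)
    (reach : ∀ i, i ≠ i0 → ∃ j k, j < i ∧ ν j k = i) :
    ∃ (H1 : Subgroup G1) (H2 : Subgroup G2), Nat.card H1 = N ∧ Nat.card H2 = N ∧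
      Nonempty (H1 ≃* H2) := by
  classical
  let Γ : Subgroup (G1 × G2) := Subgroup.closure (Set.range fun k => (g k, h k))
  have hinv : ∀ k, (g k, h k)⁻¹ = (g k, h k) := by
    intro k
    rw [inv_eq_iff_mul_eq_one]
    exact Prod.ext (hg k) (hh k)
  have hΓ : ∀ γ ∈ Γ, ∃ i, R1 i γ.1 ∧ R2 i γ.2 := by
    intro γ hγ
    induction hγ using Subgroup.closure_induction_right with
    | one => exact ⟨i0, h1, h2⟩
    | mul_right x _ y hy ih =>
      obtain ⟨i, hi1, hi2⟩ := ih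
      obtain ⟨k, rfl⟩ := hy
      exact ⟨ν i k, m1 i k _ hi1, m2 i k _ hi2⟩
    | mul_inv_cancel x _ y hy ih =>
      obtain ⟨i, hi1, hi2⟩ := ih
      obtain ⟨k, rfl⟩ := hy
      rw [hinv]
      exact ⟨ν i k, m1 i k _ hi1, m2 i k _ hi2⟩
  have hex : ∀ n : ℕ, ∀ i : Fin N, i.1 = n → ∃ γ ∈ Γ, R1 i γ.1 ∧ R2 i γ.2 := by
    intro n
    induction n using Nat.strong_induction_on with
    | _ n ih =>
      intro i hi
      by_cases hi0 : i = i0
      · exact ⟨1, Γ.one_mem, by rw [hi0]; exact h1, by rw [hi0]; exact h2⟩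
      · obtain ⟨j, k, hj, hjk⟩ := reach i hi0
        obtain ⟨γ, hγ, h3, h4⟩ := ih j.1 (by rw [← hi]; exact hj) j rfl
        refine ⟨γ * (g k, h k), Γ.mul_mem hγ (Subgroup.subset_closure ⟨k, rfl⟩), ?_, ?_⟩
        · rw [← hjk]; exact m1 j k _ h3
        · rw [← hjk]; exact m2 j k _ h4
  let e : Γ → Fin N := fun γ => (hΓ γ.1 γ.2).choose
  have he : ∀ γ : Γ, R1 (e γ) γ.1.1 ∧ R2 (e γ) γ.1.2 := fun γ => (hΓ γ.1 γ.2).choose_spec
  have hebij : Function.Bijective e := by
    constructor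
    · intro γ γ' hγ
      apply Subtype.ext
      apply Prod.ext
      · exact u1 _ _ _ (he γ).1 (by rw [hγ]; exact (he γ').1)
      · exact u2 _ _ _ (he γ).2 (by rw [hγ]; exact (he γ').2)
    · intro i
      obtain ⟨γ, hγ, h3, -⟩ := hex i.1 i rfl
      exact ⟨⟨γ, hγ⟩, d1 _ _ _ (he ⟨γ, hγ⟩).1 h3⟩
  have hcard : Nat.card Γ = N := by
    rw [Nat.card_congr (Equiv.ofBijective e hebij), Nat.card_eq_fintype_card, Fintype.card_fin]
  let f1 : Γ →* G1 := (MonoidHom.fst G1 G2).comp Γ.subtype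
  let f2 : Γ →* G2 := (MonoidHom.snd G1 G2).comp Γ.subtype
  have hf1 : Function.Injective f1 := by
    rw [injective_iff_map_eq_one]
    intro γ hγ
    have h3 : γ.1.1 = 1 := hγ
    have h4 := (he γ).1
    rw [h3] at h4
    have h5 : e γ = i0 := d1 _ _ _ h4 h1
    have h6 : γ.1.2 = 1 := by
      apply u2 i0 _ _ _ h2
      rw [← h5]; exact (he γ).2
    exact Subtype.ext (Prod.ext h3 h6)
  have hf2 : Function.Injective f2 := by
    rw [injective_iff_map_eq_one]
    intro γ hγ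
    have h3 : γ.1.2 = 1 := hγ
    have h4 := (he γ).2
    rw [h3] at h4
    have h5 : e γ = i0 := d2 _ h4
    have h6 : γ.1.1 = 1 := by
      apply u1 i0 _ _ _ h1
      rw [← h5]; exact (he γ).1
    exact Subtype.ext (Prod.ext h6 h3)
  let e1 := MonoidHom.ofInjective hf1
  let e2 := MonoidHom.ofInjective hf2
  refine ⟨f1.range, f2.range, ?_, ?_, ⟨e1.symm.trans e2⟩⟩
  · rw [← Nat.card_congr e1.toEquiv, hcard]
  · rw [← Nat.card_congr e2.toEquiv, hcard]

/-- Sylow subgroups are isomorphic to a given subgroup of the right order. -/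
theorem sylow_equiv {G : Type*} [Group G] [Finite G] {p k m : ℕ} [Fact p.Prime]
    (hG : Nat.card G = p ^ k * m) (hm : ¬ p ∣ m) (P : Sylow p G) (H : Subgroup G)
    (hH : Nat.card H = p ^ k) : Nonempty (↥(P : Subgroup G) ≃* H) := by
  have hf : (Nat.card G).factorization p = k := by
    have hp := (Fact.out : p.Prime)
    have hm0 : m ≠ 0 := by rintro rfl; exact hm (dvd_zero _)
    rw [hG, Nat.factorization_mul (pow_ne_zero _ hp.ne_zero) hm0, Finsupp.add_apply,
      hp.factorization_pow, Nat.factorization_eq_zero_of_not_dvd hm]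
    simp
  let Q : Sylow p G := Sylow.ofCard H (by rw [hH, hf])
  exact ⟨P.equiv Q⟩

end Cfsg.Agent.H247.Tables
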